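import Cfsg.Agent.UGT.BL34.KF
import Cfsg.Agent.UGT.Blk.Act
import Cfsg.Agent.UGT.Blk.SysOf
import Cfsg.Agent.UGT.Res.EFacts

/-!
# No adjacency between members `L₃(4)`

`SS` a conjugation invariant set of simple subgroups of type `L₃(4)` with partners (`Blk.Base SS`): members with
commuting involutions are equal or commute (`noAdj_comm`).
-/

set_option autoImplicit false

namespace Cfsg.Agent.UGT.BL34

open Subgroup
open Cfsg.Agent.SignalizersComponents.IntrinsicBasic
open Cfsg.Agent.OddHalf.D6 (act act_apply act_mul act_congr act_one_iff act_eq_iff)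
open Cfsg.Agent.UGT.Res.EFacts (act_one_iff' act_of_mem act_inv act_comm' act_sq act_fix)
open Cfsg.Agent.UGT.Blk
open scoped commutatorElement

variable {G : Type*} [Group G] {L K : Subgroup G}

/-! ### translation -/

theorem as_iff {u a : G} (hu : u ∈ normalizer (L : Set G)) (ha : a ∈ L) :
    As L u a ↔ act L u hu = MulAut.conj (⟨a, ha⟩ : L) := by
  constructor
  · intro h
    ext x
    exact h x x.2
  · intro h x hx
    have h1 := congrArg (fun f : MulAut L => ((f ⟨x, hx⟩ : L) : G)) h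
    exact h1

theorem inn_iff' {u : G} (hu : u ∈ normalizer (L : Set G)) :
    Inn L u ↔ ∃ l : L, act L u hu = MulAut.conj l := by
  constructor
  · rintro ⟨a, ha, h⟩
    exact ⟨⟨a, ha⟩, (as_iff hu ha).1 h⟩
  · rintro ⟨⟨a, ha⟩, h⟩
    exact ⟨a, ha, (as_iff hu ha).2 h⟩

theorem cen_bot (F : KL L) {x : G} (hx : x ∈ L) (hc : x ∈ centralizer (L : Set G)) : x = 1 := by
  have h1 : MulAut.conj (⟨x, hx⟩ : L) = 1 := by
    rw [← act_of_mem hx]
    exact (act_one_iff' _).mpr hc
  exact congrArg Subtype.val (F.cen _ h1)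

theorem as_inj (F : KL L) {u a b : G} (ha : a ∈ L) (hb : b ∈ L) (h : As L u a) (h' : As L u b) : a = b := by
  have h1 : As L a b := h.symm.trans h'
  have := cen_bot F (L.mul_mem (L.inv_mem hb) ha) h1.inv_mul
  exact (inv_mul_eq_one.mp this).symm

theorem as_ord2 (F : KL L) {u a : G} (hu : u * u ∈ centralizer (L : Set G)) (ha : a ∈ L) (h : As L u a)
    (hn : u ∉ centralizer (L : Set G)) : orderOf a = 2 := by
  refine ord2_of ?_ ?_
  · refine cen_bot F (L.mul_mem ha ha) ?_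
    rw [← as_one_iff]
    exact (h.mul h (le_normalizer ha)).symm.trans (as_one_iff.mpr hu)
  · rintro rfl
    exact hn (as_one_iff.mp h)

theorem outer (F : KL L) {u : G} (hu : u ∈ normalizer (L : Set G)) (huu : u * u = 1) (hi : ¬ Inn L u) :
    (∃ D₀ : Subgroup G, D₀ ≤ L ∧ ⁅D₀, D₀⁆ = D₀ ∧ (∀ d ∈ D₀, d * u = u * d) ∧ ∃ d ∈ D₀, orderOf d = 2) ∨
    ((∀ s ∈ L, ∀ s' ∈ L, orderOf s = 2 → orderOf s' = 2 → s * u = u * s → s' * u = u * s' → s * s' = s' * s →
      s = s') ∧ ∃ w ∈ L, w * u = u * w ∧ w * w ≠ 1 ∧ w * w * (w * w) = 1) := by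
  rcases F.outer (act L u hu) (act_sq hu huu) (fun l hl => hi ((inn_iff' hu).2 ⟨l, hl⟩)) with
    ⟨D₀, h1, h2, d, hd, hd1, hd2⟩ | ⟨h1, w, hw, hw1, hw2⟩
  · left
    refine ⟨D₀.map L.subtype, ?_, ?_, ?_, d, ⟨d, hd, rfl⟩, ord2_of (congrArg Subtype.val hd1) fun h => hd2 (Subtype.ext h)⟩
    · rintro _ ⟨x, -, rfl⟩
      exact x.2
    · rw [← map_commutator, h1]
    · rintro _ ⟨x, hx, rfl⟩
      exact (act_fix hu x.2).1 (h2 x hx)
  · right
    refine ⟨?_, w, w.2, (act_fix hu w.2).1 hw, fun h => hw1 (Subtype.ext h), congrArg Subtype.val hw2⟩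
    intro s hs s' hs' h2 h2' h3 h4 h5
    exact congrArg Subtype.val (h1 ⟨s, hs⟩ ⟨s', hs'⟩ (Subtype.ext (inv2_sq h2)) (Subtype.ext (inv2_sq h2'))
      (fun h => inv2_ne h2 (congrArg Subtype.val h)) (fun h => inv2_ne h2' (congrArg Subtype.val h))
      ((act_fix hu hs).2 h3) ((act_fix hu hs').2 h4) (Subtype.ext h5))

theorem inn_sq (F : KL L) {w : G} (hw : w ∈ normalizer (L : Set G)) (h : w * w * (w * w) = 1) : Inn L (w * w) := by
  obtain ⟨l, hl⟩ := F.sq (act L w hw) (by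
    rw [act_mul, act_mul, act_one_iff']
    rw [h]; exact one_mem _)
  rw [act_mul] at hl
  exact (inn_iff' _).2 ⟨l, hl⟩

/-- the centralizer in `L` as a subgroup of `G` -/
theorem map_cen {t : G} (ht : t ∈ L) :
    (centralizer ({(⟨t, ht⟩ : L)} : Set L)).map L.subtype = L ⊓ centralizer ({t} : Set G) := by
  ext x
  constructor
  · rintro ⟨y, hy, rfl⟩
    refine ⟨y.2, mem_csing.mpr ?_⟩
    exact congrArg Subtype.val (mem_centralizer_singleton_iff.1 hy)
  · rintro ⟨hx, hx'⟩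
    refine ⟨⟨x, hx⟩, ?_, rfl⟩
    rw [SetLike.mem_coe, mem_centralizer_singleton_iff]
    exact Subtype.ext (mem_csing.mp hx')

theorem card64 (F : KL L) {t : G} (ht : t ∈ L) (t2 : orderOf t = 2) :
    Nat.card ↥(L ⊓ centralizer ({t} : Set G)) = 64 := by
  rw [← map_cen ht, Nat.card_congr (equivMapOfInjective _ _ L.subtype_injective).toEquiv.symm]
  exact F.card64 _ (Subtype.ext (inv2_sq t2)) fun h => inv2_ne t2 (congrArg Subtype.val h)

theorem geninv (F : KL L) {t : G} (ht : t ∈ L) (t2 : orderOf t = 2) (H : Subgroup G)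
    (hH : ∀ a ∈ L, a * t = t * a → orderOf a = 2 → a ∈ H) : ∀ a ∈ L, a * t = t * a → a ∈ H := by
  intro a ha hat
  have h1 := F.geninv ⟨t, ht⟩ (Subtype.ext (inv2_sq t2)) (fun h => inv2_ne t2 (congrArg Subtype.val h))
    (H.subgroupOf L) (by
      intro b hb hbb
      by_cases hb1 : b = 1
      · rw [hb1]; exact one_mem _
      · exact hH b b.2 (congrArg Subtype.val hb) (ord2_of (congrArg Subtype.val hbb)
          fun h => hb1 (Subtype.ext h))) ⟨a, ha⟩ (Subtype.ext hat)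
  exact h1

theorem exists_pow (F : KL L) {t a : G} (ht : t ∈ L) (t2 : orderOf t = 2) (ha : a ∈ L) (hat : a * t = t * a)
    (ha1 : a ≠ 1) : ∃ n : ℕ, orderOf (a ^ n) = 2 := by
  obtain ⟨n, h1, h2⟩ := F.two ⟨t, ht⟩ (Subtype.ext (inv2_sq t2)) (fun h => inv2_ne t2 (congrArg Subtype.val h))
    ⟨a, ha⟩ (Subtype.ext hat) (fun h => ha1 (congrArg Subtype.val h))
  exact ⟨n, ord2_of (congrArg Subtype.val h2) fun h => h1 (Subtype.ext h)⟩

theorem exists_elem (F : KL L) {t u : G} (ht : t ∈ L) (t2 : orderOf t = 2) (hu : u ∈ L) (u2 : orderOf u = 2)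
    (hut : u * t = t * u) : ∃ E : Subgroup G, E ≤ L ∧ Nat.card E = 16 ∧ (∀ a ∈ E, a * a = 1 ∧ a * t = t * a) ∧
      u ∈ E := by
  obtain ⟨E, h1, h2, h3⟩ := F.elem ⟨t, ht⟩ ⟨u, hu⟩ (Subtype.ext (inv2_sq t2))
    (fun h => inv2_ne t2 (congrArg Subtype.val h)) (Subtype.ext (inv2_sq u2)) (Subtype.ext hut)
  refine ⟨E.map L.subtype, ?_, ?_, ?_, ⟨_, h3, rfl⟩⟩
  · rintro _ ⟨x, -, rfl⟩
    exact x.2
  · rw [Nat.card_congr (equivMapOfInjective _ _ L.subtype_injective).toEquiv.symm, h1]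
  · rintro _ ⟨x, hx, rfl⟩
    exact ⟨congrArg Subtype.val (h2 x hx).1, congrArg Subtype.val (h2 x hx).2⟩

theorem exists_four (F : KL L) {t : G} (ht : t ∈ L) (t2 : orderOf t = 2) :
    ∃ v ∈ L, orderOf v = 2 ∧ v ≠ t ∧ t * v = v * t := by
  obtain ⟨v, h1, h2, h3, h4⟩ := F.four ⟨t, ht⟩ (Subtype.ext (inv2_sq t2))
    (fun h => inv2_ne t2 (congrArg Subtype.val h))
  exact ⟨v, v.2, ord2_of (congrArg Subtype.val h1) fun h => h2 (Subtype.ext h), fun h => h3 (Subtype.ext h),
    congrArg Subtype.val h4⟩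

/-- the elements inducing inner automorphisms -/
def InnS (L : Subgroup G) : Subgroup G where
  carrier := {x | Inn L x}
  one_mem' := ⟨1, one_mem _, As.refl _ _⟩
  mul_mem' := by
    rintro x y ⟨a, ha, h⟩ ⟨b, hb, h'⟩
    exact ⟨a * b, mul_mem ha hb, h.mul h' (le_normalizer hb)⟩
  inv_mem' := by
    rintro x ⟨a, ha, h⟩
    refine ⟨a⁻¹, inv_mem ha, ?_⟩
    intro y hy
    have h1 := h (a⁻¹ * y * a) (mul_mem (mul_mem (inv_mem ha) hy) ha)
    have h2 : a * (a⁻¹ * y * a) * a⁻¹ = y := by group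
    rw [h2] at h1
    calc x⁻¹ * y * x⁻¹⁻¹ = x⁻¹ * (x * (a⁻¹ * y * a) * x⁻¹) * x := by rw [h1]; group
      _ = a⁻¹ * y * a⁻¹⁻¹ := by group

theorem mem_InnS {x : G} : x ∈ InnS L ↔ Inn L x := Iff.rfl

/-! ### bad pairs -/

/-- two members which are neither equal nor commuting -/
structure BP (SS : Set (Subgroup G)) (K L : Subgroup G) : Prop where
  mK : K ∈ SS
  mL : L ∈ SS
  ne : K ≠ L
  nc : ¬ Comm K L

variable {SS : Set (Subgroup G)}

theorem BP.symm (h : BP SS K L) : BP SS L K := ⟨h.mL, h.mK, h.ne.symm, fun hc => h.nc hc.symm⟩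

/-- involutions of `K` do not centralise `L` -/
theorem BP.ncen [Finite G] (h : BP SS K L) (B : Base SS) {u : G} (hu : u ∈ K) (u2 : orderOf u = 2) :
    u ∉ centralizer (L : Set G) := fun hc => h.nc (B.cen h.mL h.mK hu u2 hc)

theorem cenle' [Finite G] (B : Base SS) (hL : L ∈ SS) {t c : G} (ht : t ∈ L) (t2 : orderOf t = 2)
    (hc : c * t = t * c) : c ∈ normalizer (L : Set G) := B.cenle hL ht t2 (mem_csing.mpr hc)

/-- involutions of `K` in `N(L)` are inner on `L` -/
theorem BP.inn [Finite G] (h : BP SS K L) (B : Base SS) (F : ∀ L ∈ SS, KL L) {u : G} (hu : u ∈ K)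
    (u2 : orderOf u = 2) (hn : u ∈ normalizer (L : Set G)) : Inn L u := by
  by_contra hi
  rcases outer (F L h.mL) hn (inv2_sq u2) hi with ⟨D₀, hDL, hp, hcom, d, hd, hd2⟩ | ⟨hcomm, w, hw, hwu, hw1, hw2⟩
  · have h1 : D₀ ≤ centralizer (K : Set G) :=
      B.solv K h.mK u hu u2 D₀ hp (fun d hd => cenle' B h.mK hu u2 (hcom d hd)) hcom
    exact h.symm.ncen B (hDL hd) hd2 (h1 hd)
  · have hbL : w * w ∈ L := mul_mem hw hw
    have b2 : orderOf (w * w) = 2 := ord2_of hw2 hw1
    have hbu : w * w * u = u * (w * w) := by rw [mul_assoc, hwu, ← mul_assoc, hwu, mul_assoc]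
    have hwK : w ∈ normalizer (K : Set G) := cenle' B h.mK hu u2 hwu
    obtain ⟨b', hb', hbb'⟩ := inn_sq (F K h.mK) hwK hw2
    have b2' : orderOf b' = 2 := as_ord2 (F K h.mK) (by rw [hw2]; exact one_mem _) hb' hbb'
      (h.symm.ncen B hbL b2)
    have hub' : u * b' = b' * u := (hbb'.comm_iff hu).1 hbu.symm
    obtain ⟨E, hEK, hE16, hE, huE⟩ := exists_elem (F K h.mK) hb' b2' hu u2 hub'
    have hEN : E ≤ normalizer (L : Set G) := by
      intro e he
      exact cenle' B h.mL hbL b2 ((hbb'.comm_iff (hEK he)).2 (hE e he).2)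
    set f : ↥E →* MulAut ↥L := L.normalizerMonoidHom.comp (inclusion hEN) with hf
    have hfa : ∀ e : E, f e = act L (e : G) (hEN e.2) := fun _ => rfl
    have hinj : Function.Injective f := by
      rw [injective_iff_map_eq_one]
      intro e he
      rw [hfa, act_one_iff'] at he
      by_contra he1
      have he2 : (e : G) ≠ 1 := fun h => he1 (Subtype.ext h)
      exact h.ncen B (hEK e.2) (ord2_of (hE e e.2).1 he2) he
    have hcardf : Nat.card f.range = 16 := by
      rw [← hE16]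
      exact (Nat.card_congr (MonoidHom.ofInjective hinj).toEquiv).symm
    obtain ⟨i, j, ⟨ei, hi'⟩, ⟨ej, hj'⟩, hi1, hj1, hij⟩ := (F L h.mL).out16 f.range (by
      rintro _ ⟨e, rfl⟩
      rw [← map_mul, show e * e = 1 from Subtype.ext (hE e e.2).1, map_one]) hcardf.ge
    have hEc : ∀ a b : E, a * b = b * a := by
      intro a b
      have h1 : a * a = 1 := Subtype.ext (hE a a.2).1
      have h2 : b * b = 1 := Subtype.ext (hE b b.2).1
      have h3 : (a * b) * (a * b) = 1 := Subtype.ext (hE (a * b : E) (a * b : E).2).1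
      calc a * b = (a * b)⁻¹ := (inv_eq_of_mul_eq_one_left h3).symm
        _ = b⁻¹ * a⁻¹ := mul_inv_rev a b
        _ = b * a := by rw [inv_eq_of_mul_eq_one_left h1, inv_eq_of_mul_eq_one_left h2]
    have hfu : ∀ (e : E) (l : L), f e = MulAut.conj l → (l : G) * u = u * l := by
      intro e l hl
      have h1 : f e * f ⟨u, huE⟩ = f ⟨u, huE⟩ * f e := by rw [← map_mul, hEc, map_mul]
      rw [hl, hfa ⟨u, huE⟩] at h1
      have h2 : act L u hn l = l := by
        have h3 : MulAut.conj (act L u hn l) = MulAut.conj l := by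
          rw [Cfsg.Agent.LThreeFour.Dat.conj_map, ← h1]; group
        have h4 : MulAut.conj (act L u hn l * l⁻¹) = 1 := by
          rw [map_mul, h3, ← map_mul, mul_inv_cancel, map_one]
        exact mul_inv_eq_one.1 ((F L h.mL).cen _ h4)
      exact (act_fix hn l.2).1 h2
    have hord : ∀ (e : E) (l : L), f e = MulAut.conj l → l ≠ 1 → orderOf (l : G) = 2 := by
      intro e l hl hl1
      have h1 : MulAut.conj (l * l) = 1 := by
        rw [map_mul, ← hl, ← map_mul, show e * e = 1 from Subtype.ext (hE e e.2).1, map_one]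
      exact ord2_of (congrArg Subtype.val ((F L h.mL).cen _ h1)) fun h => hl1 (Subtype.ext h)
    apply hij
    apply Subtype.ext
    refine hcomm i i.2 j j.2 (hord ei i hi' hi1) (hord ej j hj' hj1) (hfu ei i hi') (hfu ej j hj') ?_
    have h1 : MulAut.conj (i * j * (j * i)⁻¹) = 1 := by
      rw [map_mul, map_inv, map_mul, map_mul, ← hi', ← hj', ← map_mul, ← map_mul, hEc ei ej, mul_inv_cancel]
    have h2 := mul_inv_eq_one.1 ((F L h.mL).cen _ h1)
    exact congrArg Subtype.val h2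

/-- `C_K(t)` covers `C_L(t)` -/
theorem BP.surj [Finite G] (h : BP SS K L) (B : Base SS) (F : ∀ L ∈ SS, KL L) {t : G} (ht : t ∈ L)
    (t2 : orderOf t = 2) (hn : t ∈ normalizer (K : Set G)) :
    ∀ a ∈ L, a * t = t * a → ∃ x ∈ K, As L x a := by
  obtain ⟨t', ht', htt'⟩ := h.symm.inn B F ht t2 hn
  have t2' : orderOf t' = 2 := as_ord2 (F K h.mK) (by rw [inv2_sq t2]; exact one_mem _) ht' htt'
    (h.symm.ncen B ht t2)
  have hP : ∀ x ∈ K, x * t' = t' * x → x * t = t * x := fun x hx hx' => (htt'.comm_iff hx).2 hx'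
  set P : Subgroup G := K ⊓ centralizer ({t'} : Set G) with hPd
  have hPN : P ≤ normalizer (L : Set G) := by
    rintro x ⟨hx, hx'⟩
    exact cenle' B h.mL ht t2 (hP x hx (mem_csing.mp hx'))
  have hPI : ∀ x ∈ P, Inn L x := by
    rintro x ⟨hx, hx'⟩
    refine geninv (F K h.mK) ht' t2' (InnS L) ?_ x hx (mem_csing.mp hx')
    intro a ha hat a2
    exact h.inn B F ha a2 (cenle' B h.mL ht t2 (hP a ha hat))
  set f : ↥P →* MulAut ↥L := L.normalizerMonoidHom.comp (inclusion hPN) with hf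
  have hfa : ∀ e : P, f e = act L (e : G) (hPN e.2) := fun _ => rfl
  have hinj : Function.Injective f := by
    rw [injective_iff_map_eq_one]
    intro e he
    rw [hfa, act_one_iff'] at he
    by_contra he1
    have he2 : (e : G) ≠ 1 := fun h => he1 (Subtype.ext h)
    obtain ⟨n, hn⟩ := exists_pow (F K h.mK) ht' t2' e.2.1 (mem_csing.mp e.2.2) he2
    exact h.ncen B (pow_mem e.2.1 n) hn (pow_mem he n)
  have hcardf : Nat.card f.range = 64 := by
    rw [← card64 (F K h.mK) ht' t2']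
    exact (Nat.card_congr (MonoidHom.ofInjective hinj).toEquiv).symm
  have hcinj : Function.Injective (MulAut.conj : L →* MulAut L) := by
    rw [injective_iff_map_eq_one]
    exact (F L h.mL).cen
  set C : Subgroup (MulAut L) := (centralizer ({(⟨t, ht⟩ : L)} : Set L)).map (MulAut.conj : L →* MulAut L) with hC
  have hcardC : Nat.card C = 64 := by
    rw [hC, Nat.card_congr (equivMapOfInjective _ _ hcinj).toEquiv.symm]
    exact (F L h.mL).card64 _ (Subtype.ext (inv2_sq t2)) fun h => inv2_ne t2 (congrArg Subtype.val h)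
  have hle : f.range ≤ C := by
    rintro _ ⟨x, rfl⟩
    obtain ⟨a, ha, hxa⟩ := hPI x x.2
    refine ⟨⟨a, ha⟩, ?_, ?_⟩
    · rw [SetLike.mem_coe, mem_centralizer_singleton_iff]
      apply Subtype.ext
      exact ((hxa.comm_iff ht).1 (hP x x.2.1 (mem_csing.mp x.2.2)).symm).symm
    · rw [hfa]
      exact ((as_iff _ ha).1 hxa).symm
  have hfin : Finite C := Finite.of_injective (fun x : C => ((x : MulAut L) : L → L))
    (fun x y h => Subtype.ext (DFunLike.coe_injective h))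
  have heq : f.range = C := eq_of_le_of_card_ge hle (by rw [hcardf, hcardC])
  intro a ha hat
  have h1 : MulAut.conj (⟨a, ha⟩ : L) ∈ f.range := by
    rw [heq]
    refine ⟨⟨a, ha⟩, ?_, rfl⟩
    rw [SetLike.mem_coe, mem_centralizer_singleton_iff]
    exact Subtype.ext hat
  obtain ⟨x, hx⟩ := h1
  exact ⟨x, x.2.1, (as_iff _ ha).2 hx⟩

/-- a partner of `K` is bad for `L` -/
theorem BP.part [Finite G] (h : BP SS K L) (B : Base SS) {P : Subgroup G} (r : rl SS K P) : BP SS P L := by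
  by_cases hPK : P = K
  · rw [hPK]; exact h
  have hcKP : Comm K P := r.comm (Ne.symm hPK)
  refine ⟨r.2.1, h.mL, ?_, ?_⟩
  · rintro rfl
    exact h.nc hcKP
  · intro hc
    rcases B.spread r.2.1 h.mL hc.symm r.symm with h1 | h1
    · exact h.ne h1.symm
    · exact h.nc h1.symm

/-- **No adjacency.** -/
theorem BP.false_of [Finite G] (h : BP SS K L) (B : Base SS) (F : ∀ L ∈ SS, KL L) {t u : G} (ht : t ∈ L)
    (t2 : orderOf t = 2) (hu : u ∈ K) (u2 : orderOf u = 2) (htu : t * u = u * t) : False := by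
  obtain ⟨P, hP, r⟩ := B.part K h.mK
  have rKP : rl SS K P := ⟨h.mK, hP, Or.inr r⟩
  have hPL : BP SS P L := h.part B rKP
  have cKP : Comm K P := r.comm
  have key : ∀ a ∈ L, orderOf a = 2 → a * u = u * a → a ∉ normalizer (P : Set G) := by
    intro a ha a2 hau han
    have haK : a ∈ normalizer (K : Set G) := cenle' B h.mK hu u2 hau
    have h1 := h.surj B F ha a2 haK
    have h2 := hPL.surj B F ha a2 han
    obtain ⟨b, c, hb, hc, hbc⟩ := (F L h.mL).nabc ⟨a, ha⟩ (Subtype.ext (inv2_sq a2))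
      (fun h => inv2_ne a2 (congrArg Subtype.val h))
    obtain ⟨x, hx, hxb⟩ := h1 b b.2 (congrArg Subtype.val hb)
    obtain ⟨y, hy, hyc⟩ := h2 c c.2 (congrArg Subtype.val hc)
    apply hbc
    apply Subtype.ext
    have h3 := hxb.mul hyc (le_normalizer c.2)
    have h4 := hyc.mul hxb (le_normalizer b.2)
    rw [← cKP x hx y hy] at h4
    exact as_inj (F L h.mL) (mul_mem b.2 c.2) (mul_mem c.2 b.2) h3 h4
  have huN : u ∈ normalizer (L : Set G) := cenle' B h.mL ht t2 htu.symm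
  obtain ⟨a, ha, hua⟩ := h.inn B F hu u2 huN
  have a2 : orderOf a = 2 := as_ord2 (F L h.mL) (by rw [inv2_sq u2]; exact one_mem _) ha hua (h.ncen B hu u2)
  obtain ⟨v, hv, v2, hva, hav⟩ := exists_four (F L h.mL) ha a2
  have hau : a * u = u * a := hua.self_comm ha
  have hvu : v * u = u * v := (hua.comm_iff hv).2 hav.symm
  have mv : ∀ c ∈ L, orderOf c = 2 → c * u = u * c → rl SS P (cj c P) ∧ cj c P ≠ P := by
    intro c hc c2 hcu
    have hcK : c ∈ normalizer (K : Set G) := cenle' B h.mK hu u2 hcu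
    have h1 := rKP.cj B.cj_mem c
    rw [mem_normalizer_iff_cj.mp hcK] at h1
    exact ⟨B.trans rKP.symm h1, fun h => key c hc c2 hcu (mem_normalizer_iff_cj.mpr h)⟩
  obtain ⟨ra, na⟩ := mv a ha a2 hau
  obtain ⟨rv, nv⟩ := mv v hv v2 hvu
  have cPa : Comm P (cj a P) := ra.comm na.symm
  have cPv : Comm P (cj v P) := rv.comm nv.symm
  have cav : Comm (cj a P) (cj v P) := by
    refine (B.trans ra.symm rv).comm ?_
    intro he
    have h1 : orderOf (v * a) = 2 := ord2_mul v2 a2 hav.symm hva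
    refine key (v * a) (mul_mem hv ha) h1 (by rw [mul_assoc, hau, ← mul_assoc, hvu, mul_assoc]) ?_
    rw [mem_normalizer_iff_cj, cj_mul, he, ← cj_mul, inv2_sq v2, cj_one]
  have hpP : ⁅P, P⁆ = P := B.perfect P hP
  have hd : ∀ c ∈ L, orderOf c = 2 → Comm P (cj c P) → ∀ x ∈ P, x * (c * x * c⁻¹) ∈ centralizer (L : Set G) := by
    intro c hc c2 hcP x hx
    obtain ⟨D₀, h1, h2, h3⟩ := exists_diag hpP hcP (inv2_sq c2)
    exact B.solv L h.mL c hc c2 D₀ h1 (fun d hd => cenle' B h.mL hc c2 (h2 d hd)) h2 (h3 x hx)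
  have hfin : P ≤ centralizer (L : Set G) := by
    rw [← hpP, commutator_le]
    intro k hk l hl
    have h1 := hd a ha a2 cPa k hk
    have h2 := hd v hv v2 cPv l hl
    have h3 : ⁅k * (a * k * a⁻¹), l * (v * l * v⁻¹)⁆ = ⁅k, l⁆ := by
      have e1 : a * k * a⁻¹ ∈ cj a P := conj_mem_cj hk
      have e2 : v * l * v⁻¹ ∈ cj v P := conj_mem_cj hl
      generalize a * k * a⁻¹ = k' at e1 ⊢
      generalize v * l * v⁻¹ = l' at e2 ⊢
      have c1 := cPa l hl k' e1
      have c2 := cPv k hk l' e2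
      have c3 := cav k' e1 l' e2
      have c4 := cPa k hk k' e1
      have c5 := cPv l hl l' e2
      have d1 : k' * (l * l') * k'⁻¹ = l * l' := by
        rw [mul_inv_eq_iff_eq_mul]
        calc k' * (l * l') = k' * l * l' := by group
          _ = l * (k' * l') := by rw [← c1]; group
          _ = l * l' * k' := by rw [c3]; group
      have d2 : l' * k⁻¹ * l'⁻¹ = k⁻¹ := by
        rw [mul_inv_eq_iff_eq_mul]
        calc l' * k⁻¹ = k⁻¹ * (k * l') * k⁻¹ := by group
          _ = k⁻¹ * l' := by rw [c2]; group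
      rw [commutatorElement_def, commutatorElement_def]
      calc k * k' * (l * l') * (k * k')⁻¹ * (l * l')⁻¹
          = k * (k' * (l * l') * k'⁻¹) * k⁻¹ * (l * l')⁻¹ := by group
        _ = k * l * (l' * k⁻¹ * l'⁻¹) * l⁻¹ := by rw [d1]; group
        _ = k * l * k⁻¹ * l⁻¹ := by rw [d2]
    rw [← h3, commutatorElement_def]
    exact mul_mem (mul_mem (mul_mem h1 h2) (inv_mem h1)) (inv_mem h2)
  exact hPL.nc (comm_iff.mpr hfin)

/-- **Members of type `L₃(4)` with commuting involutions are equal or commute.** -/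
theorem noAdj_comm [Finite G] (B : Base SS) (F : ∀ L ∈ SS, KL L) {L K : Subgroup G} (hL : L ∈ SS) (hK : K ∈ SS)
    {t u : G} (ht : t ∈ L) (hu : u ∈ K) (ht2 : orderOf t = 2) (hu2 : orderOf u = 2) (htu : t * u = u * t) :
    L = K ∨ Comm L K := by
  by_contra hcon
  push Not at hcon
  have h : BP SS K L := ⟨hK, hL, hcon.1.symm, fun hc => hcon.2 hc.symm⟩
  exact h.false_of B F ht ht2 hu hu2 htu

end Cfsg.Agent.UGT.BL34
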