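import Cfsg.Agent.UGT.FL34.KF34
import Cfsg.Agent.UGT.BL.Basic

/-!
# Pairs of commuting components `L₃(4)`: the facts on `L₃(4)`

`KL D`: the facts on `D ≅ L₃(4)` used to show that two members `L₃(4)` containing commuting involutions commute.
-/

set_option autoImplicit false
set_option linter.constructorNameAsVariable false
set_option linter.unusedVariables false

namespace Cfsg.Agent.UGT.BL34

open Subgroup
open Cfsg.Agent.UGT.FL34
open Cfsg.Agent.SporadicA.FieldFour
open Cfsg.Agent.LThreeFour Cfsg.Agent.LThreeFour.Dat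
open Cfsg.Agent.ONType.Psl (PSL3)
open Cfsg.Agent.ClassicalGeometry.AutPSL.Root
open Cfsg.Agent.ClassicalGeometry.AutPSL.Auto
open Cfsg.Agent.UGT.ThEL34 (fx mem_fx Wild)
open Cfsg.Agent.UGT.Iface (IsL34)
open scoped commutatorElement

/-- the facts on `L₃(4)` -/
structure KL (D : Type*) [Group D] : Prop extends BL.T2 D where
  /-- one class of involutions -/
  conj2 : ∀ s t : D, s * s = 1 → s ≠ 1 → t * t = 1 → t ≠ 1 → ∃ g, g * s * g⁻¹ = t
  cen : ∀ l : D, MulAut.conj l = 1 → l = 1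
  /-- outer involutions: field and graph type, unitary polarity -/
  outer : ∀ α : MulAut D, α * α = 1 → (∀ l, α ≠ MulAut.conj l) →
    (∃ D₀ : Subgroup D, ⁅D₀, D₀⁆ = D₀ ∧ (∀ d ∈ D₀, α d = d) ∧ ∃ d ∈ D₀, d * d = 1 ∧ d ≠ 1) ∨
    ((∀ s s' : D, s * s = 1 → s' * s' = 1 → s ≠ 1 → s' ≠ 1 → α s = s → α s' = s' → s * s' = s' * s → s = s') ∧
      ∃ w, α w = w ∧ w * w ≠ 1 ∧ w * w * (w * w) = 1)
  sq : ∀ β : MulAut D, β * β * (β * β) = 1 → ∃ l, β * β = MulAut.conj l
  card64 : ∀ s : D, s * s = 1 → s ≠ 1 → Nat.card (centralizer ({s} : Set D)) = 64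
  nabc : ∀ s : D, s * s = 1 → s ≠ 1 → ∃ a b : D, a * s = s * a ∧ b * s = s * b ∧ a * b ≠ b * a
  geninv : ∀ s : D, s * s = 1 → s ≠ 1 → ∀ H : Subgroup D, (∀ a, a * s = s * a → a * a = 1 → a ∈ H) →
    ∀ a, a * s = s * a → a ∈ H
  two : ∀ s : D, s * s = 1 → s ≠ 1 → ∀ a, a * s = s * a → a ≠ 1 → ∃ n : ℕ, a ^ n ≠ 1 ∧ a ^ n * a ^ n = 1
  elem : ∀ s u : D, s * s = 1 → s ≠ 1 → u * u = 1 → u * s = s * u →
    ∃ E : Subgroup D, Nat.card E = 16 ∧ (∀ a ∈ E, a * a = 1 ∧ a * s = s * a) ∧ u ∈ E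
  out16 : ∀ E : Subgroup (MulAut D), (∀ a ∈ E, a * a = 1) → 16 ≤ Nat.card E →
    ∃ i j : D, MulAut.conj i ∈ E ∧ MulAut.conj j ∈ E ∧ i ≠ 1 ∧ j ≠ 1 ∧ i ≠ j

section

variable {L : Type*} [Group L]

theorem perf_of_simple {D : Type*} [Group D] (hs : IsSimpleGroup D) (hn : ¬ ∀ x y : D, x * y = y * x) :
    ⁅(⊤ : Subgroup D), (⊤ : Subgroup D)⁆ = ⊤ := by
  rcases hs.eq_bot_or_eq_top_of_normal ⁅(⊤ : Subgroup D), (⊤ : Subgroup D)⁆ inferInstance with h | h
  · exfalso
    apply hn
    intro x y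
    have h1 : ⁅x, y⁆ ∈ ⁅(⊤ : Subgroup D), (⊤ : Subgroup D)⁆ := commutator_mem_commutator (mem_top _) (mem_top _)
    rw [h, mem_bot] at h1
    exact commutatorElement_eq_one_iff_mul_comm.1 h1
  · exact h

theorem map_fx (H : Subgroup L) (h : commutator H = ⊤) : ⁅H, H⁆ = H := by
  have h1 := Subgroup.map_subtype_commutator H
  rw [h, ← MonoidHom.range_eq_map, range_subtype] at h1
  exact h1.symm

/-- an outer involution of field or graph type is wild for some polarity -/
theorem wild_of_bits (e : PSL3 ≃* L) {α : MulAut L} (hα : α * α = 1)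
    (hb : bits ((D e).tyHom α) = (true, false) ∨ bits ((D e).tyHom α) = (false, true)) :
    (tr e x0) * (tr e x0) = 1 ∧ bits ((D e).tyHom (tr e x0)) = (true, true) ∧ Wild (tr e x0) α := by
  have h0 : (D e).IsTau (true, true, 0) (tr e x0) := isTau_map e isTau_x0
  have h1 : (tr e x0) * (tr e x0) = 1 := by
    have h1 := h0.mul h0
    exact IsTau.ext (A := D e) (τ := ty1) h1 isTau_one
  have h2 : (D e).tyHom (tr e x0) = ⟨(true, true, 0)⟩ := h0.hasTy.tyHom
  have hb2 : bits ((D e).tyHom (tr e x0)) = (true, true) := by rw [h2]; rfl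
  refine ⟨h1, hb2, hα, ?_, ?_⟩
  · intro l hl
    rw [hl, (D e).tyHom_conj] at hb
    revert hb
    decide
  · intro l hl
    rw [hl, map_mul, (D e).tyHom_conj, mul_one, hb2] at hb
    revert hb
    decide

set_option maxRecDepth 100000 in
theorem code_nab : cmul ⟨1, 0, 0⟩ ⟨0, 1, 0⟩ ≠ cmul ⟨0, 1, 0⟩ ⟨1, 0, 0⟩ := by decide +kernel

set_option maxRecDepth 100000 in
theorem code_gen : ∀ p : Code, p = cmul (cmul ⟨p.a, 0, 0⟩ ⟨0, p.b, 0⟩) ⟨0, 0, p.c⟩ := by decide +kernel

set_option maxRecDepth 100000 in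
theorem code_sqs : (∀ a : F4, cmul ⟨a, 0, 0⟩ ⟨a, 0, 0⟩ = cone) ∧ (∀ a : F4, cmul ⟨0, a, 0⟩ ⟨0, a, 0⟩ = cone) ∧
    ∀ a : F4, cmul ⟨0, 0, a⟩ ⟨0, 0, a⟩ = cone := by decide +kernel

set_option maxRecDepth 100000 in
theorem code_inv : ∀ p : Code, cmul p p = cone → p.a = 0 ∨ p.b = 0 := by decide +kernel

/-- the two elementary abelian subgroups of order 16 -/
def el16 (A : Dat L) (i : Bool) : Subgroup L where
  carrier := {l | ∃ p : Code, (if i then p.a = 0 else p.b = 0) ∧ A.el p = l}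
  one_mem' := ⟨cone, by cases i <;> rfl, A.el_one⟩
  mul_mem' := by
    rintro _ _ ⟨p, hp, rfl⟩ ⟨q, hq, rfl⟩
    refine ⟨cmul p q, ?_, (A.el_mul p q).symm⟩
    cases i
    · simp only [Bool.false_eq_true, if_false] at hp hq ⊢
      show p.b + q.b = 0
      rw [hp, hq]; rfl
    · simp only [if_true] at hp hq ⊢
      show p.a + q.a = 0
      rw [hp, hq]; rfl
  inv_mem' := by
    rintro _ ⟨p, hp, rfl⟩
    exact ⟨cinv p, hp, (A.el_inv p).symm⟩

theorem mem_el16 {A : Dat L} {i : Bool} {l : L} :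
    l ∈ el16 A i ↔ ∃ p : Code, (if i then p.a = 0 else p.b = 0) ∧ A.el p = l := Iff.rfl

theorem card_el16 (A : Dat L) (i : Bool) : Nat.card (el16 A i) = 16 := by
  have h : Nat.card (F4 × F4) = 16 := by rw [Nat.card_eq_fintype_card]; rfl
  rw [← h]
  symm
  refine Nat.card_congr (Equiv.ofBijective
    (fun x => ⟨A.el (if i then ⟨0, x.1, x.2⟩ else ⟨x.1, 0, x.2⟩), _, by cases i <;> rfl, rfl⟩) ⟨?_, ?_⟩)
  · rintro ⟨a, b⟩ ⟨c, d⟩ h
    have h1 := A.inj (congrArg Subtype.val h)
    cases i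
    · simp only [Bool.false_eq_true, if_false, Code.mk.injEq] at h1
      rw [Prod.mk.injEq]; exact ⟨h1.1, h1.2.2⟩
    · simp only [if_true, Code.mk.injEq] at h1
      rw [Prod.mk.injEq]; exact ⟨h1.2.1, h1.2.2⟩
  · rintro ⟨_, ⟨⟨a, b, c⟩, hp, rfl⟩⟩
    cases i
    · simp only [Bool.false_eq_true, if_false] at hp
      subst hp
      exact ⟨(a, c), rfl⟩
    · simp only [if_true] at hp
      subst hp
      exact ⟨(b, c), rfl⟩

set_option maxRecDepth 100000 in
theorem code_ab : ∀ p : Code, p.a = 0 ∨ p.b = 0 → cmul p p = cone := by decide +kernel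

set_option maxRecDepth 100000 in
theorem ty_mem : ∀ g h k : TyG, g * g = 1 → h * h = 1 → k * k = 1 → g * h = h * g → g * k = k * g →
    h * k = k * h → g ≠ 1 → h ≠ 1 → g ≠ h → k = 1 ∨ k = g ∨ k = h ∨ k = g * h := by decide +kernel

/-- elementary abelian 2-subgroups of `Out L₃(4)` have order at most 4 -/
theorem card_ty (E : Subgroup TyG) (hE : ∀ a ∈ E, a * a = 1) : Nat.card E ≤ 4 := by
  classical
  have hc : ∀ a ∈ E, ∀ b ∈ E, a * b = b * a := by
    intro a ha b hb
    have h1 := hE _ (mul_mem ha hb)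
    have h2 := hE a ha
    have h3 := hE b hb
    calc a * b = a * b * (a * b * (a * b))⁻¹ * (a * a) * (b * b) := by rw [h1, h2, h3]; group
      _ = b⁻¹ * a⁻¹ * (a * a) * (b * b) := by group
      _ = b⁻¹ * a * (b * b) := by group
      _ = b * a := by
        have h4 : b⁻¹ = b := inv_eq_of_mul_eq_one_left h3
        rw [h3, mul_one, h4]
  by_cases h1 : ∃ g ∈ E, g ≠ 1
  · obtain ⟨g, hg, hg1⟩ := h1
    by_cases h2 : ∃ h ∈ E, h ≠ 1 ∧ g ≠ h
    · obtain ⟨h, hh, hh1, hgh⟩ := h2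
      have h3 : (E : Set TyG) ⊆ {1, g, h, g * h} := by
        intro k hk
        exact ty_mem g h k (hE g hg) (hE h hh) (hE k hk) (hc g hg h hh) (hc g hg k hk) (hc h hh k hk) hg1 hh1 hgh
      have h4 := Set.ncard_le_ncard h3 (Set.toFinite _)
      have h5 : ({1, g, h, g * h} : Set TyG).ncard ≤ 4 := by
        refine (Set.ncard_insert_le _ _).trans ?_
        have h6 := Set.ncard_insert_le g ({h, g * h} : Set TyG)
        have h7 := Set.ncard_insert_le h ({g * h} : Set TyG)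
        rw [Set.ncard_singleton] at h7
        omega
      have h6 : Nat.card E = (E : Set TyG).ncard := rfl
      omega
    · push Not at h2
      have h3 : (E : Set TyG) ⊆ {1, g} := by
        intro k hk
        by_cases h4 : k = 1
        · exact Or.inl h4
        · exact Or.inr (h2 k hk h4).symm
      have h4 := Set.ncard_le_ncard h3 (Set.toFinite _)
      have h5 := Set.ncard_insert_le (1 : TyG) ({g} : Set TyG)
      rw [Set.ncard_singleton] at h5
      have h6 : Nat.card E = (E : Set TyG).ncard := rfl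
      omega
  · push Not at h1
    have h2 : E = ⊥ := by
      rw [eq_bot_iff]
      intro x hx
      exact mem_bot.2 (h1 x hx)
    rw [h2, card_bot]
    omega

theorem kl (e : PSL3 ≃* L) : KL L := by
  have hsim := simp e
  have hfin : Finite L := (D e).finite
  have hnab : ¬ ∀ x y : L, x * y = y * x := by
    intro h
    exact x02_x20 (D e) (h _ _)
  have sq02 : ∀ (A : Dat L), A.x 0 2 1 * A.x 0 2 1 = 1 := fun A => A.x_sq 0 2 (by decide) 1
  refine
    { sim := hsim
      nab := hnab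
      inv := ⟨(D e).x 0 2 1, sq02 _, x02_ne _⟩
      four := ?_
      solv := ?_
      conj2 := fun s t hs hs1 ht ht1 => KF.cls e s t hs hs1 ht ht1
      cen := cl e
      outer := ?_
      sq := ?_
      card64 := ?_
      nabc := ?_
      geninv := ?_
      two := ?_
      elem := ?_
      out16 := ?_ }
  · intro t ht ht1
    obtain ⟨e', rfl⟩ := exists_x02 e ht ht1
    refine ⟨(D e').el ⟨1, 0, 0⟩, ?_, ?_, ?_, ?_⟩
    · rw [(D e').el_mul, code_sqs.1, (D e').el_one]
    · rw [Ne, (D e').el_eq_one]; decide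
    · rw [← (D e').el_x02]
      intro h
      exact absurd ((D e').inj h) (by decide)
    · exact (cent_x02.2 ((D e').el_mem _)).symm
  · intro J t ht ht1 hJ hf
    have h1 := sols e t ht ht1
    have h2 : J ≤ centralizer ({MulAut.conj t} : Set (MulAut L)) := by
      intro β hβ
      rw [mem_centralizer_singleton_iff]
      exact conj_comm (hf β hβ)
    have h3 : Group.IsSolvable J := Group.isSolvable_of_isSolvable_injective (Subgroup.inclusion_injective h2)
    by_contra h4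
    have h5 : Nontrivial J := (Subgroup.nontrivial_iff_ne_bot J).2 h4
    have h6 := Group.IsSolvable.commutator_lt_top_of_nontrivial J
    have h7 : commutator J = ⊤ := by
      apply Subgroup.map_injective J.subtype_injective
      rw [Subgroup.map_subtype_commutator, ← MonoidHom.range_eq_map, range_subtype]
      exact le_antisymm (commutator_le_self J) hJ
    exact absurd h7 h6.ne
  · intro α hα hi
    have h1 := ty_sq ((D e).tyHom α) (by rw [← map_mul, hα, map_one])
    have hw : (bits ((D e).tyHom α) = (true, false) ∨ bits ((D e).tyHom α) = (false, true)) →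
        ∃ D₀ : Subgroup L, ⁅D₀, D₀⁆ = D₀ ∧ (∀ d ∈ D₀, α d = d) ∧ ∃ d ∈ D₀, d * d = 1 ∧ d ≠ 1 := by
      intro h
      obtain ⟨h2, h3, h4⟩ := wild_of_bits e hα h
      obtain ⟨e', h5⟩ := wpure e h2 h3 h4
      refine ⟨fx α, map_fx _ (wperf e h2 h3 α h4), fun d hd => hd, (D e').x 0 2 1, ?_, sq02 _, x02_ne _⟩
      exact h5.elim fx_x02 fx_x02
    rcases h1 with h | h | h | h
    · obtain ⟨l, hl⟩ := (D e).inner_iff.1 h
      exact absurd hl (hi l)
    · exact Or.inl (hw (Or.inl h))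
    · exact Or.inl (hw (Or.inr h))
    · have hb : bits ((D e).tyHom α) = (true, true) := by rw [h]; rfl
      obtain ⟨e', h2⟩ := pure1 e hα hb (by decide)
      have h3 : α ((D e').x 0 2 1) = (D e').x 0 2 1 := x02_one _ h2
      obtain ⟨w, hw1, hw2⟩ := sq4 e hα hb ((D e').x 0 2 1) (sq02 _) (x02_ne _) h3
      refine Or.inr ⟨comm e hα hb, w, hw1, ?_, ?_⟩
      · rw [hw2]; exact x02_ne _
      · rw [hw2]; exact sq02 _
  · intro β hβ
    exact out4 e β (by rw [pow_succ, pow_three']; simpa [mul_assoc] using hβ)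
  · intro s hs hs1
    obtain ⟨e', rfl⟩ := exists_x02 e hs hs1
    have h1 : centralizer ({(D e').x 0 2 1} : Set L) = (D e').T := by
      ext l
      rw [mem_centralizer_singleton_iff, cent_x02]
    rw [h1, (D e').card_T]
  · intro s hs hs1
    obtain ⟨e', rfl⟩ := exists_x02 e hs hs1
    refine ⟨(D e').el ⟨1, 0, 0⟩, (D e').el ⟨0, 1, 0⟩, cent_x02.2 ((D e').el_mem _), cent_x02.2 ((D e').el_mem _), ?_⟩
    rw [(D e').el_mul, (D e').el_mul]
    exact fun h => code_nab ((D e').inj h)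
  · intro s hs hs1 H hH a ha
    obtain ⟨e', rfl⟩ := exists_x02 e hs hs1
    obtain ⟨p, rfl⟩ := cent_x02.1 ha
    have key : ∀ q : Code, cmul q q = cone → (D e').el q ∈ H := fun q hq =>
      hH _ (cent_x02.2 ((D e').el_mem _)) (by rw [(D e').el_mul, hq, (D e').el_one])
    rw [code_gen p, ← (D e').el_mul, ← (D e').el_mul]
    exact mul_mem (mul_mem (key _ (code_sqs.1 _)) (key _ (code_sqs.2.1 _))) (key _ (code_sqs.2.2 _))
  · intro s hs hs1 a ha ha1
    obtain ⟨e', rfl⟩ := exists_x02 e hs hs1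
    obtain ⟨p, rfl⟩ := cent_x02.1 ha
    by_cases h1 : cmul p p = cone
    · exact ⟨1, by rwa [pow_one], by rw [pow_one, (D e').el_mul, h1, (D e').el_one]⟩
    · refine ⟨2, ?_, ?_⟩
      · rw [sq, (D e').el_mul, Ne, (D e').el_eq_one]; exact h1
      · rw [sq, (D e').el_mul, (D e').el_mul, KF.four_code, (D e').el_one]
  · intro s u hs hs1 hu hus
    obtain ⟨e', rfl⟩ := exists_x02 e hs hs1
    obtain ⟨p, rfl⟩ := cent_x02.1 hus
    have h1 := code_inv p (el_sq hu)
    have h2 : ∀ i, ∀ a ∈ el16 (D e') i, a * a = 1 ∧ a * (D e').x 0 2 1 = (D e').x 0 2 1 * a := by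
      rintro i _ ⟨q, hq, rfl⟩
      refine ⟨?_, cent_x02.2 ((D e').el_mem _)⟩
      rw [(D e').el_mul, code_ab, (D e').el_one]
      cases i
      · exact Or.inr hq
      · exact Or.inl hq
    rcases h1 with h1 | h1
    · exact ⟨el16 (D e') true, card_el16 _ _, h2 true, ⟨p, h1, rfl⟩⟩
    · exact ⟨el16 (D e') false, card_el16 _ _, h2 false, ⟨p, h1, rfl⟩⟩
  · intro E hE h16
    classical
    have hfA : Finite (MulAut L) := Finite.of_injective (fun f : MulAut L => (f : L → L)) DFunLike.coe_injective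
    set f : E →* TyG := (D e).tyHom.comp E.subtype with hf
    have h1 : Nat.card f.range ≤ 4 := by
      apply card_ty
      rintro _ ⟨⟨a, ha⟩, rfl⟩
      have h2 : (⟨a, ha⟩ : E) * ⟨a, ha⟩ = 1 := Subtype.ext (hE a ha)
      rw [← map_mul, h2, map_one]
    have h2 : Nat.card f.ker * Nat.card f.range = Nat.card E := by
      rw [← Subgroup.index_ker, Subgroup.card_mul_index]
    have h3 : 4 ≤ Nat.card f.ker := by
      by_contra h
      have h4 : Nat.card f.ker * Nat.card f.range ≤ 3 * 4 := Nat.mul_le_mul (by omega) h1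
      omega
    have h4 : ∃ a ∈ f.ker, a ≠ 1 ∧ ∃ b ∈ f.ker, b ≠ 1 ∧ a ≠ b := by
      by_contra hcon
      push Not at hcon
      by_cases h5 : ∃ a ∈ f.ker, a ≠ 1
      · obtain ⟨a, ha, ha1⟩ := h5
        have h6 : (f.ker : Set E) ⊆ {1, a} := by
          intro b hb
          by_cases h7 : b = 1
          · exact Or.inl h7
          · exact Or.inr (hcon a ha ha1 b hb h7).symm
        have h7 := Set.ncard_le_ncard h6 (Set.toFinite _)
        have h8 := Set.ncard_insert_le (1 : E) ({a} : Set E)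
        rw [Set.ncard_singleton] at h8
        have h9 : Nat.card f.ker = (f.ker : Set E).ncard := rfl
        omega
      · push Not at h5
        have h6 : f.ker = ⊥ := by
          rw [eq_bot_iff]
          intro b hb
          exact mem_bot.2 (h5 b hb)
        rw [h6, card_bot] at h3
        omega
    obtain ⟨a, ha, ha1, b, hb, hb1, hab⟩ := h4
    obtain ⟨i, hi⟩ := (D e).inner_iff.1 (MonoidHom.mem_ker.1 ha : (D e).tyHom (a : MulAut L) = 1)
    obtain ⟨j, hj⟩ := (D e).inner_iff.1 (MonoidHom.mem_ker.1 hb : (D e).tyHom (b : MulAut L) = 1)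
    refine ⟨i, j, by rw [← hi]; exact a.2, by rw [← hj]; exact b.2, ?_, ?_, ?_⟩
    · rintro rfl
      rw [map_one] at hi
      exact ha1 (Subtype.ext hi)
    · rintro rfl
      rw [map_one] at hj
      exact hb1 (Subtype.ext hj)
    · rintro rfl
      exact hab (Subtype.ext (hi.trans hj.symm))

theorem kl_of (h : IsL34 L) : KL L := by
  obtain ⟨F, _, _, hF, ⟨e⟩⟩ := h
  obtain ⟨e'⟩ := nonempty_psl_equiv (n := Fin 3) F hF
  exact kl (e'.trans e.symm)

end

end Cfsg.Agent.UGT.BL34
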