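import Cfsg.Agent.UGT.BL34.Adj
import Cfsg.Agent.UGT.BL.Bridge
import Cfsg.Agent.UGT.BL.Close

/-!
# No pair of commuting components of type `L₃(4)`

`false_of_rel`: a simple subgroup `X` of a finite group `G` contains no `L, K ≅ L₃(4)` with `Rel ⊤ L K` (commuting,
each subnormal in the centralizers of the involutions of the other).
-/

set_option autoImplicit false

namespace Cfsg.Agent.UGT.BL34

open Subgroup
open Cfsg.Agent.SignalizersComponents.IntrinsicBasic
open Cfsg.Agent.UGT.Blk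
open Cfsg.Agent.UGT.Iface (IsL34)
open scoped commutatorElement

universe u

section

variable {G : Type*} [Group G] {L K : Subgroup G}

theorem isL34_cj (g : G) (h : IsL34 ↥L) : IsL34 ↥(cj g L) := by
  obtain ⟨F, i1, i2, hF, ⟨e⟩⟩ := h
  exact ⟨F, i1, i2, hF, ⟨(L.equivMapOfInjective _ (MulAut.conj g).injective).symm.trans e⟩⟩

theorem perfect_of (F : KL L) : ⁅L, L⁆ = L := by
  have h1 := perf_of_simple F.sim F.nab
  have h2 := congrArg (Subgroup.map L.subtype) h1
  rwa [Subgroup.map_commutator, ← MonoidHom.range_eq_map, range_subtype] at h2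

theorem solv_of (F : KL L) (t : G) (ht : t ∈ L) (t2 : orderOf t = 2) (D : Subgroup G) (hD : ⁅D, D⁆ = D)
    (hDN : D ≤ normalizer (L : Set G)) (hDt : ∀ d ∈ D, d * t = t * d) : D ≤ centralizer (L : Set G) := by
  set f : ↥D →* MulAut ↥L := L.normalizerMonoidHom.comp (inclusion hDN) with hf
  have hfa : ∀ e : D, f e = Cfsg.Agent.OddHalf.D6.act L (e : G) (hDN e.2) := fun _ => rfl
  have hDp : ⁅(⊤ : Subgroup D), (⊤ : Subgroup D)⁆ = ⊤ := by
    apply Subgroup.map_injective D.subtype_injective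
    rw [Subgroup.map_commutator, ← MonoidHom.range_eq_map, range_subtype, hD]
  have h1 : f.range = ⊥ := by
    refine F.solv f.range ⟨t, ht⟩ (Subtype.ext (inv2_sq t2)) (fun h => inv2_ne t2 (congrArg Subtype.val h)) ?_ ?_
    · rw [MonoidHom.range_eq_map, ← Subgroup.map_commutator, hDp]
    · rintro _ ⟨d, rfl⟩
      rw [hfa]
      exact (Cfsg.Agent.UGT.Res.EFacts.act_fix _ ht).2 (hDt d d.2).symm
  intro d hd
  rw [← Cfsg.Agent.UGT.Res.EFacts.act_one_iff' (hDN hd)]
  have h2 : f ⟨d, hd⟩ ∈ f.range := ⟨_, rfl⟩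
  rw [h1, mem_bot] at h2
  exact h2

/-- the members of the pairs -/
def SS (G : Type*) [Group G] : Set (Subgroup G) := {L | IsL34 ↥L ∧ ∃ P : Subgroup G, IsL34 ↥P ∧ Rel ⊤ L P}

theorem kl_mem {L : Subgroup G} (h : L ∈ SS G) : KL L := kl_of h.1

theorem base : Base (SS G) where
  cj_mem := by
    rintro L ⟨h, P, hP, r⟩ g
    exact ⟨isL34_cj g h, cj g P, isL34_cj g hP, r.cj g⟩
  simple := fun L hL => (kl_mem hL).sim
  perfect := fun L hL => perfect_of (kl_mem hL)
  even := by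
    intro L hL
    obtain ⟨t, h1, h2⟩ := (kl_mem hL).inv
    exact ⟨t, t.2, ord2_of (congrArg Subtype.val h1) fun h => h2 (Subtype.ext h)⟩
  conj2 := by
    intro L hL t ht u hu t2 u2
    obtain ⟨g, hg⟩ := (kl_mem hL).conj2 ⟨t, ht⟩ ⟨u, hu⟩ (Subtype.ext (inv2_sq t2))
      (fun h => inv2_ne t2 (congrArg Subtype.val h)) (Subtype.ext (inv2_sq u2))
      (fun h => inv2_ne u2 (congrArg Subtype.val h))
    exact ⟨g, g.2, congrArg Subtype.val hg⟩
  solv := fun L hL t ht t2 D hD hn hc => solv_of (kl_mem hL) t ht t2 D hD hn hc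
  part := by
    rintro L ⟨h, P, hP, r⟩
    exact ⟨P, ⟨hP, L, h, r.symm⟩, r⟩

/-- the hypotheses of Theorem BL for members of type `L₃(4)` -/
theorem sys_of [Finite G] {SS : Set (Subgroup G)} (B : Base SS) (F : ∀ L ∈ SS, KL L) (hne : SS.Nonempty) :
    BL.Sys SS where
  conj := fun g L hL => B.cj_mem L hL g
  ne := hne
  ty := fun L hL => (F L hL).toT2
  b1 := fun L hL t ht c hc => cenle' B hL ht.mem ht.ord hc
  ad := fun L hL K hK t u ht hu htu => noAdj_comm B F hL hK ht.mem hu.mem ht.ord hu.ord htu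
  m := by
    intro L hL
    obtain ⟨K, hK, h1⟩ := B.part L hL
    exact ⟨K, hK, BL.P.of_rel h1⟩

end

variable {G : Type u} [Group G]

/-- **No `~`-pair of `L₃(4)`'s in a simple subgroup.** -/
theorem false_of_rel [Finite G] {X L K : Subgroup G} [IsSimpleGroup ↥X] (h : Rel ⊤ L K) (hL : IsL34 ↥L)
    (hK : IsL34 ↥K) (hLX : L ≤ X) (hKX : K ≤ X) : False := by
  have hLS : L ∈ SS G := ⟨hL, K, hK, h⟩
  have hKS : K ∈ SS G := ⟨hK, L, hL, h.symm⟩
  have h1 := sys_of base (fun L hL => kl_mem hL) ⟨L, hLS⟩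
  have h2 := h1.sub hLS hKS (BL.P.of_rel h) hLX hKX
  exact BL.false_of' (fun G _ _ _ Λ H h => h.false_of) _ ↥X _ le_rfl h2

theorem false_of_rel' [Finite G] [IsSimpleGroup G] {L K : Subgroup G} (h : Rel ⊤ L K) (hL : IsL34 ↥L)
    (hK : IsL34 ↥K) : False := by
  have h1 := sys_of base (fun L hL => kl_mem hL) ⟨L, (⟨hL, K, hK, h⟩ : L ∈ SS G)⟩
  exact BL.false_of' (fun G _ _ _ Λ H h => h.false_of) _ G _ le_rfl h1

end Cfsg.Agent.UGT.BL34
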